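import Groth.Agent.KRRLib.PnBC.Base
import Groth.Agent.PnCoh.Chow.PullFrame
import Groth.Agent.InvX.Pullback
import Groth.Agent.PnCoh.Finite.TwistInv
import Groth.Agent.PicClLib.Basic
import Groth.Agent.ProjUPX.Unique
import Groth.Agent.H23.PicMul
import Groth.Prelude.Def_KRR

/-!
# Twisting sheaves and base change of projective space
-/

set_option autoImplicit false
set_option linter.style.haveILetI false
set_option backward.isDefEq.respectTransparency false
set_option backward.isDefEq.respectTransparency.types false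

universe u

open CategoryTheory CategoryTheory.Limits AlgebraicGeometry TopologicalSpace Opposite

noncomputable section

namespace Groth.Agent.KRRLib.PnBC

open Groth.Agent Groth.Agent.AModX Groth.Agent.H23.PicMul

/-- A homomorphism carrying frames to frames is invertible. -/
theorem isIso_of_frames {X : Scheme.{u}} {M N : X.Modules} (φ : M ⟶ N) {ι : Type u} (U : ι → X.Opens)
    (hcov : ∀ x, ∃ a, x ∈ U a) (e : ∀ a, Γ(M, U a)) (he : ∀ a, InvX.IsFrame (e a))
    (hn : ∀ a, InvX.IsFrame (φ.app (U a) (e a))) : IsIso φ := by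
  have hc : ∀ (a b : ι) (W : X.Opens) (ha : W ≤ U a) (hb : W ≤ U b) (g : Γ(X, W)),
      res N hb (φ.app (U b) (e b)) = g • res N ha (φ.app (U a) (e a)) →
        res M hb (e b) = g • res M ha (e a) := fun a b W ha hb g hg => by
    obtain ⟨k, hk⟩ := (he a).exists_coord ha (res M hb (e b))
    rw [hk]
    congr 1
    refine (hn a).coord_unique ha ?_
    rw [← hg, ← app_res, ← app_res, hk, Scheme.Modules.Hom.app_smul]
  refine ⟨InvX.ofFrames hcov hn hc, ?_, ?_⟩
  · refine InvX.hom_ext_of_frames U hcov e he fun a => ?_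
    exact InvX.ofFrames_app hcov hn hc a
  · refine InvX.hom_ext_of_frames U hcov _ hn fun a => ?_
    exact congrArg (φ.app (U a)) (InvX.ofFrames_app hcov hn hc a)

open scoped HomogeneousIdeal in
/-- The coordinate ratios pull back to the coordinate ratios. -/
theorem ratioOf_map {R A : Type u} [CommRing R] [CommRing A] [Algebra R A] {𝒜 : ℕ → Submodule R A} [GradedAlgebra 𝒜]
    {S B : Type u} [CommRing S] [CommRing B] [Algebra S B] {ℬ : ℕ → Submodule S B} [GradedAlgebra ℬ]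
    (ψ : 𝒜 →+*ᵍ ℬ) (hψ : ℬ₊ ≤ (𝒜₊).map ψ) {a s : A} (ha : a ∈ 𝒜 1) (hs : s ∈ 𝒜 1) {u' t : B}
    (eu : ψ a = u') (et : ψ s = t) (hu : u' ∈ ℬ 1) (ht : t ∈ ℬ 1) {W : (Proj ℬ).Opens}
    (h : W ≤ Proj.basicOpen ℬ t) (h' : W ≤ Proj.map ψ hψ ⁻¹ᵁ Proj.basicOpen 𝒜 s) :
    ProjUPX.ratioOf (Proj.map ψ hψ) ha hs h' = resR h (PnCoh.Chow.sRatio hu ht) := by
  subst eu et
  rw [ProjUPX.ratioOf, ← Scheme.Hom.appLE_map (Proj.map ψ hψ) (U := Proj.basicOpen 𝒜 s)
    (V := Proj.basicOpen ℬ (ψ s)) le_rfl (homOfLE h).op, CommRingCat.comp_apply]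
  refine congrArg (resR h) ?_
  refine (ConcreteCategory.congr_hom (Proj.awayToSection_comp_appLE ψ hψ hs) _).trans ?_
  exact congrArg (Proj.awayToSection ℬ (ψ s)).hom (HomogeneousLocalization.Away.map_mk _ _ _ _ _ _)

variable {n : ℕ} {R A : Type u} [CommRing R] [CommRing A] (c : R →+* A)

theorem iSup_basicOpen (n : ℕ) (k : Type u) [CommRing k] :
    ⨆ i : ULift.{u} (Fin (n + 1)), Proj.basicOpen (CohB1.polyGrading n k) (MvPolynomial.X i.down) = ⊤ := by
  refine top_le_iff.1 fun x hx => ?_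
  obtain ⟨j, hj⟩ := Opens.mem_iSup.1 ((Proj.iSup_basicOpen_eq_top (CohB1.polyGrading n k) _
    (SegreX.irrelevant_le_span n k)).ge hx)
  exact Opens.mem_iSup.2 ⟨⟨j⟩, hj⟩

theorem nonempty_twistOne : Nonempty ((Scheme.Modules.pullback (bcHom n c)).obj (Twist.twistProjSpace n R ((1 : ℕ) : ℤ)) ≅
    Twist.twistProjSpace n A ((1 : ℕ) : ℤ)) := by
  let U : ULift.{u} (Fin (n + 1)) → (CohB1.ProjSpace n A).Opens := fun i =>
    bcHom n c ⁻¹ᵁ Proj.basicOpen (CohB1.polyGrading n R) (MvPolynomial.X i.down)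
  have hU : ∀ i : ULift.{u} (Fin (n + 1)), U i = Proj.basicOpen (CohB1.polyGrading n A) (MvPolynomial.X i.down) :=
    fun i => (Proj.map_preimage_basicOpen _ _ _).trans (by rw [polyMap_X])
  let e := fun i : ULift.{u} (Fin (n + 1)) => PnCoh.Chow.pFrame (bcHom n c) (X_mem_one n R i.down) ((1 : ℕ) : ℤ)
  let m := fun i : ULift.{u} (Fin (n + 1)) =>
    res (Twist.twistProjSpace n A ((1 : ℕ) : ℤ)) (hU i).le (PnCoh.Chow.twF (X_mem_one n A i.down) ((1 : ℕ) : ℤ))
  have he : ∀ i, InvX.IsFrame (e i) := fun i => PnCoh.Chow.isFrame_pFrame _ _ _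
  have hm : ∀ i, InvX.IsFrame (m i) := fun i => (PnCoh.Chow.isFrame_twF _ _).res _
  have hcov : ∀ x, ∃ a, x ∈ U a := fun x => by
    obtain ⟨j, hj⟩ := Opens.mem_iSup.1 ((iSup_basicOpen n A).ge (Set.mem_univ x))
    exact ⟨j, (hU j).ge hj⟩
  have hc : ∀ (a b : ULift.{u} (Fin (n + 1))) (W : (CohB1.ProjSpace n A).Opens) (ha : W ≤ U a) (hb : W ≤ U b)
      (g : Γ(CohB1.ProjSpace n A, W)),
      res _ hb (e b) = g • res _ ha (e a) → res _ hb (m b) = g • res _ ha (m a) := by
    intro a b W ha hb g hg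
    have hr := PnCoh.Chow.res_pFrame (bcHom n c) (X_mem_one n R a.down) (X_mem_one n R b.down) 1 ha hb
    obtain rfl := (he a).coord_unique ha (hg.symm.trans hr)
    rw [res_res, res_res]
    refine (PnCoh.Chow.res_twF (X_mem_one n A a.down) (X_mem_one n A b.down) 1 (ha.trans (hU a).le)
      (hb.trans (hU b).le)).trans ?_
    congr 1
    rw [pow_one, pow_one]
    exact (ratioOf_map (polyMap n c) (irrelevant_le c) _ _ (polyMap_X c b.down) (polyMap_X c a.down) _ _
      (ha.trans (hU a).le) ha).symm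
  haveI := isIso_of_frames (InvX.ofFrames hcov he hc) U hcov e he
    fun a => by rw [InvX.ofFrames_app]; exact hm a
  exact ⟨asIso (InvX.ofFrames hcov he hc)⟩

/-- `O(d)` pulls back to `O(d)`. -/
theorem nonempty_twistIso (d : ℤ) :
    Nonempty ((Scheme.Modules.pullback (bcHom n c)).obj (Twist.twistProjSpace n R d) ≅
      Twist.twistProjSpace n A d) := by
  have hgR := fun i : ULift.{u} (Fin (n + 1)) => X_mem_one n R i.down
  have hgA := fun i : ULift.{u} (Fin (n + 1)) => X_mem_one n A i.down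
  have hR := PnCoh.Finite.invertible_package _ hgR (iSup_basicOpen n R)
  have hA := PnCoh.Finite.invertible_package _ hgA (iSup_basicOpen n A)
  let a : ℤ → PicF.Cl (CohB1.ProjSpace n A) := fun k => PicF.cl (Twist.twistProjSpace n A k)
  let b : ℤ → PicF.Cl (CohB1.ProjSpace n A) := fun k =>
    PicF.pullCl (bcHom n c) (PicF.cl (Twist.twistProjSpace n R k))
  have h1 : b ((1 : ℕ) : ℤ) = a ((1 : ℕ) : ℤ) := cl_eq_iff.2 (nonempty_twistOne c)
  rw [Nat.cast_one] at h1
  have hpos : ∀ k : ℕ, b k = a k := fun k => by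
    obtain ⟨eR⟩ := hR.2.2 k
    obtain ⟨eA⟩ := hA.2.2 k
    have e1 : PicF.cl (Twist.twistProjSpace n R (k : ℤ)) = PicF.cl (Twist.twistProjSpace n R 1) ^ k :=
      (cl_eq_iff.2 ⟨eR⟩).trans (cl_tensorPow _ k)
    have e2 : PicF.cl (Twist.twistProjSpace n A (k : ℤ)) = PicF.cl (Twist.twistProjSpace n A 1) ^ k :=
      (cl_eq_iff.2 ⟨eA⟩).trans (cl_tensorPow _ k)
    show PicF.pullCl _ _ = PicF.cl _
    rw [e1, e2, pullCl_pow]
    exact congrArg (· ^ k) h1
  refine cl_eq_iff.1 (show b d = a d from ?_)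
  rcases d.eq_nat_or_neg with ⟨k, rfl | rfl⟩
  · exact hpos k
  · refine (isUnit_cl (hA.1 k)).mul_left_inj.1 ?_
    show b (-(k : ℤ)) * a k = a (-(k : ℤ)) * a k
    obtain ⟨eA⟩ := hA.2.1 (-(k : ℤ)) k
    obtain ⟨eR⟩ := hR.2.1 (-(k : ℤ)) k
    have hbmul : b (-(k : ℤ)) * b k = b (-(k : ℤ) + k) := by
      show PicF.pullCl _ _ * PicF.pullCl _ _ = PicF.pullCl _ _
      rw [← pullCl_mul, ← cl_tensor]
      exact congrArg _ (cl_eq_iff.2 ⟨eR⟩)
    have hamul : a (-(k : ℤ)) * a k = a (-(k : ℤ) + k) := by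
      show PicF.cl _ * PicF.cl _ = PicF.cl _
      rw [← cl_tensor]
      exact cl_eq_iff.2 ⟨eA⟩
    rw [← hpos k, hbmul, hpos k, hamul, neg_add_cancel]
    exact hpos 0

/-- `O(d)` pulls back to `O(d)`. -/
def twistIso (d : ℤ) : (Scheme.Modules.pullback (bcHom n c)).obj (Twist.twistProjSpace n R d) ≅
    Twist.twistProjSpace n A d :=
  (nonempty_twistIso c d).some

/-- `ℙⁿ` over an affine scheme. -/
theorem isPullback_affine (n : ℕ) (A : Type u) [CommRing A] :
    IsPullback (bcHom n (SegreX.z0 A)) (CohB1.ProjSpace.toSpec n A)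
      (CohB1.ProjSpace.toSpec n (ULift.{u} ℤ)) (specULiftZIsTerminal.from (Spec (CommRingCat.of A))) := by
  rw [specULiftZIsTerminal.hom_ext (specULiftZIsTerminal.from _) (Spec.map (CommRingCat.ofHom (SegreX.z0 A)))]
  exact isPullback_bcHom _

/-- `ℙⁿ` over an affine scheme as `Proj`. -/
def affineIso (n : ℕ) (A : Type u) [CommRing A] :
    CohB1.ProjSpace n A ≅ KRR.PY n (Spec (CommRingCat.of A)) :=
  (isPullback_affine n A).isoPullback

theorem affineIso_hom_pr (n : ℕ) (A : Type u) [CommRing A] :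
    (affineIso n A).hom ≫ KRR.pr n (Spec (CommRingCat.of A)) = CohB1.ProjSpace.toSpec n A :=
  IsPullback.isoPullback_hom_snd _

/-- The twisting sheaves under `affineIso`. -/
def twistOverIso (n : ℕ) (A : Type u) [CommRing A] (d : ℤ) :
    (Scheme.Modules.pullback (affineIso n A).hom).obj (Twist.twistOver n (Spec (CommRingCat.of A)) d) ≅
      Twist.twistProjSpace n A d :=
  (Scheme.Modules.pullbackComp (affineIso n A).hom _).app _ ≪≫
    (Scheme.Modules.pullbackCongr (IsPullback.isoPullback_hom_fst _)).app _ ≪≫ twistIso (SegreX.z0 A) d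

end Groth.Agent.KRRLib.PnBC
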