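import Groth.Agent.KRRLib.PnBC.Chart
import Groth.Agent.SegreX.Coord
import Mathlib.AlgebraicGeometry.ProjectiveSpectrum.Functor

/-!
# Projective space commutes with base change
-/

set_option autoImplicit false
set_option linter.style.haveILetI false
set_option backward.isDefEq.respectTransparency false
set_option backward.isDefEq.respectTransparency.types false

universe u

open CategoryTheory CategoryTheory.Limits AlgebraicGeometry
open HomogeneousLocalization (Away)

noncomputable section

namespace Groth.Agent.KRRLib.PnBC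

/-- `MvPolynomial.map` respects the gradings. -/
def polyMap (n : ℕ) {R A : Type u} [CommRing R] [CommRing A] (c : R →+* A) :
    CohB1.polyGrading n R →+*ᵍ CohB1.polyGrading n A :=
  { MvPolynomial.map (σ := Fin (n + 1)) c with
    map_mem := fun {_ _} h => MvPolynomial.IsHomogeneous.map h c }

variable {n : ℕ} {R A : Type u} [CommRing R] [CommRing A] (c : R →+* A)

theorem polyMap_X (i : Fin (n + 1)) : polyMap n c (MvPolynomial.X i) = MvPolynomial.X i :=
  MvPolynomial.map_X c i

open scoped HomogeneousIdeal in
theorem irrelevant_le : (CohB1.polyGrading n A)₊ ≤ ((CohB1.polyGrading n R)₊).map (polyMap n c) := by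
  refine toIdeal_le_toIdeal_iff.mp ((SegreX.irrelevant_le_span n A).trans ?_)
  refine Ideal.span_le.2 ?_
  rintro _ ⟨i, rfl⟩
  rw [← polyMap_X c i]
  exact Ideal.mem_map_of_mem _
    (HomogeneousIdeal.mem_irrelevant_of_mem _ Nat.one_pos (X_mem_one n R i))

/-- The map `ℙⁿ_A ⟶ ℙⁿ_R`. -/
def bcHom (n : ℕ) {R A : Type u} [CommRing R] [CommRing A] (c : R →+* A) :
    CohB1.ProjSpace n A ⟶ CohB1.ProjSpace n R :=
  Proj.map (polyMap n c) (irrelevant_le c)

/-- The ring map between corresponding charts. -/
def chartMap (i : Fin (n + 1)) :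
    Away (CohB1.polyGrading n R) (MvPolynomial.X i) →+* Away (CohB1.polyGrading n A) (MvPolynomial.X i) :=
  evalChart i ((base n A i).comp c) (coord n A i) (coord_self n A i)

theorem awayι_bcHom (i : Fin (n + 1)) :
    Proj.awayι (CohB1.polyGrading n A) (MvPolynomial.X i) (X_mem_one n A i) Nat.one_pos ≫ bcHom n c =
      Spec.map (CommRingCat.ofHom (chartMap c i)) ≫
        Proj.awayι (CohB1.polyGrading n R) (MvPolynomial.X i) (X_mem_one n R i) Nat.one_pos := by
  suffices h : ∀ (t : MvPolynomial (Fin (n + 1)) A) (e : polyMap n c (MvPolynomial.X i) = t)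
      (ht : t ∈ CohB1.polyGrading n A 1),
      ∃ θ : Away (CohB1.polyGrading n R) (MvPolynomial.X i) →+* Away (CohB1.polyGrading n A) t,
        Proj.awayι (CohB1.polyGrading n A) t ht Nat.one_pos ≫ bcHom n c =
          Spec.map (CommRingCat.ofHom θ) ≫
            Proj.awayι (CohB1.polyGrading n R) (MvPolynomial.X i) (X_mem_one n R i) Nat.one_pos ∧
        (∀ z, (θ z).val = IsLocalization.map (Localization (Submonoid.powers t))
          (polyMap n c).toRingHom (Submonoid.powers_le.2 (show MvPolynomial.X i ∈ (Submonoid.powers t).comap (polyMap n c).toRingHom from ⟨1, (pow_one t).trans e.symm⟩)) z.val) by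
    obtain ⟨θ, hθ, hval⟩ := h _ (polyMap_X c i) (X_mem_one n A i)
    rw [hθ]
    congr 3
    refine chart_hom_ext i ?_ fun j => ?_
    · rw [chartMap, evalChart_base]
      refine RingHom.ext fun a => HomogeneousLocalization.val_injective _ ?_
      rw [RingHom.comp_apply, RingHom.comp_apply, hval, val_base, val_base, IsLocalization.map_eq]
      exact congrArg _ (MvPolynomial.map_C c a)
    · rw [chartMap, evalChart_coord]
      refine HomogeneousLocalization.val_injective _ ?_
      have hu : IsUnit (algebraMap (MvPolynomial (Fin (n + 1)) A)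
          (Localization (Submonoid.powers (MvPolynomial.X i : MvPolynomial (Fin (n + 1)) A))) (MvPolynomial.X i)) :=
        IsLocalization.map_units _ (⟨_, 1, pow_one _⟩ : Submonoid.powers (MvPolynomial.X i : MvPolynomial (Fin (n + 1)) A))
      refine hu.mul_left_injective ?_
      show _ * _ = _ * _
      rw [hval, val_coord n A i j]
      have e := congrArg (IsLocalization.map (Localization (Submonoid.powers (MvPolynomial.X i : MvPolynomial (Fin (n + 1)) A)))
        (polyMap n c).toRingHom (Submonoid.powers_le.2 (show MvPolynomial.X i ∈ (Submonoid.powers (MvPolynomial.X i : MvPolynomial (Fin (n + 1)) A)).comap (polyMap n c).toRingHom from ⟨1, (pow_one _).trans (polyMap_X c i).symm⟩))) (val_coord n R i j)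
      rw [map_mul, IsLocalization.map_eq, IsLocalization.map_eq] at e
      simpa [polyMap] using e
  rintro t rfl ht
  refine ⟨Away.map (polyMap n c) (MvPolynomial.X i), Proj.awayι_comp_map _ _ Nat.one_pos _ (X_mem_one n R i), fun z => ?_⟩
  obtain ⟨m, x, hx, rfl⟩ := HomogeneousLocalization.Away.mk_surjective _ (X_mem_one n R i) z
  rw [Away.map_mk, Away.val_mk, Away.val_mk, Localization.mk_eq_mk', Localization.mk_eq_mk',
    IsLocalization.map_mk']
  congr 1
  exact Subtype.ext (map_pow _ _ _).symm

theorem awayι_toSpec (k : Type u) [CommRing k] (i : Fin (n + 1)) :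
    Proj.awayι (CohB1.polyGrading n k) (MvPolynomial.X i) (X_mem_one n k i) Nat.one_pos ≫
      CohB1.ProjSpace.toSpec n k = Spec.map (CommRingCat.ofHom (base n k i)) := by
  rw [CohB1.ProjSpace.toSpec, Proj.awayι_toSpecZero_assoc, ← Spec.map_comp, ← CommRingCat.ofHom_comp]
  rfl

/-- The charts, as a cover. -/
def chartCover (n : ℕ) (k : Type u) [CommRing k] : (CohB1.ProjSpace n k).AffineOpenCover :=
  Proj.affineOpenCoverOfIrrelevantLESpan (CohB1.polyGrading n k)
    (fun i : ULift.{u} (Fin (n + 1)) => MvPolynomial.X i.down)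
    (fun i => X_mem_one n k i.down) (fun _ => Nat.one_pos)
    ((SegreX.irrelevant_le_span n k).trans (Ideal.span_mono (by rintro _ ⟨i, rfl⟩; exact ⟨⟨i⟩, rfl⟩)))

theorem bcHom_toSpec : bcHom n c ≫ CohB1.ProjSpace.toSpec n R =
    CohB1.ProjSpace.toSpec n A ≫ Spec.map (CommRingCat.ofHom c) := by
  refine (chartCover n A).openCover.hom_ext _ _ fun i => ?_
  show Proj.awayι (CohB1.polyGrading n A) (MvPolynomial.X i.down) (X_mem_one n A i.down) Nat.one_pos ≫ _ =
    Proj.awayι (CohB1.polyGrading n A) (MvPolynomial.X i.down) (X_mem_one n A i.down) Nat.one_pos ≫ _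
  rw [← Category.assoc, awayι_bcHom, Category.assoc, awayι_toSpec, ← Category.assoc, awayι_toSpec,
    ← Spec.map_comp, ← Spec.map_comp, ← CommRingCat.ofHom_comp, ← CommRingCat.ofHom_comp, chartMap, evalChart_base]

theorem isPullback_chart (i : Fin (n + 1)) :
    IsPullback (Spec.map (CommRingCat.ofHom (chartMap c i))) (Spec.map (CommRingCat.ofHom (base n A i)))
      (Spec.map (CommRingCat.ofHom (base n R i))) (Spec.map (CommRingCat.ofHom c)) := by
  refine isPullback_SpecMap_of_isPushout _ _ _ _ ?_
  refine ⟨⟨by rw [← CommRingCat.ofHom_comp, ← CommRingCat.ofHom_comp, chartMap, evalChart_base]⟩, ⟨?_⟩⟩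
  refine PushoutCocone.IsColimit.mk _
    (fun s => CommRingCat.ofHom (evalChart i s.inr.hom (fun j => s.inl.hom (coord n R i j))
      (by rw [coord_self, map_one]))) (fun s => ?_) (fun s => ?_) (fun s m h₁ h₂ => ?_)
  · refine CommRingCat.hom_ext (chart_hom_ext i (RingHom.ext fun a => ?_) fun j => ?_)
    · show evalChart i s.inr.hom (fun j => s.inl.hom (coord n R i j)) (by rw [coord_self, map_one]) (chartMap c i (base n R i a)) = s.inl.hom (base n R i a)
      rw [← RingHom.comp_apply (chartMap c i), chartMap, evalChart_base, RingHom.comp_apply,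
        ← RingHom.comp_apply _ (base n A i), evalChart_base]
      exact (congrArg (fun q => q.hom a) s.condition).symm
    · show evalChart i s.inr.hom (fun j => s.inl.hom (coord n R i j)) (by rw [coord_self, map_one]) (chartMap c i (coord n R i j)) = _
      rw [chartMap, evalChart_coord, evalChart_coord]
  · exact CommRingCat.hom_ext (evalChart_base i s.inr.hom (fun j => s.inl.hom (coord n R i j)) (by rw [coord_self, map_one]))
  · refine CommRingCat.hom_ext (chart_hom_ext i ?_ fun j => ?_)
    · refine Eq.trans (congrArg CommRingCat.Hom.hom h₂) (evalChart_base i s.inr.hom (fun j => s.inl.hom (coord n R i j)) (by rw [coord_self, map_one])).symm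
    · show m.hom (coord n A i j) = evalChart i s.inr.hom (fun j => s.inl.hom (coord n R i j)) (by rw [coord_self, map_one]) (coord n A i j)
      rw [evalChart_coord]
      have := congrArg (fun q => q.hom (coord n R i j)) h₁
      simpa [chartMap, evalChart_coord] using this

/-- The preimage of a standard chart. -/
theorem isPullback_awayι (i : Fin (n + 1)) :
    IsPullback (Proj.awayι (CohB1.polyGrading n A) (MvPolynomial.X i) (X_mem_one n A i) Nat.one_pos)
      (Spec.map (CommRingCat.ofHom (chartMap c i))) (bcHom n c)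
      (Proj.awayι (CohB1.polyGrading n R) (MvPolynomial.X i) (X_mem_one n R i) Nat.one_pos) := by
  refine (IsOpenImmersion.isPullback (Spec.map (CommRingCat.ofHom (chartMap c i)))
    (Proj.awayι (CohB1.polyGrading n A) (MvPolynomial.X i) (X_mem_one n A i) Nat.one_pos)
    (Proj.awayι (CohB1.polyGrading n R) (MvPolynomial.X i) (X_mem_one n R i) Nat.one_pos) (bcHom n c)
    (awayι_bcHom c i) ?_).flip
  rw [Proj.opensRange_awayι, Proj.opensRange_awayι]
  exact (Proj.map_preimage_basicOpen _ _ _).trans (by rw [polyMap_X])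

/-- A map to a fibre product is invertible over a piece of the target when the piece of the source
is the fibre product. -/
theorem isIso_snd_of_squares {C : Type*} [Category C] [HasPullbacks C] {X P M S T Y V : C}
    {f : P ⟶ M} {q : P ⟶ T} {t : M ⟶ S} {g : T ⟶ S} (hsq : IsPullback f q t g)
    {Φ : X ⟶ P} {f' : X ⟶ M} {q' : X ⟶ T} (h1 : Φ ≫ f = f') (h2 : Φ ≫ q = q')
    {a : V ⟶ M} {e : Y ⟶ X} {θ : Y ⟶ V} {bY : Y ⟶ T} {bV : V ⟶ S}
    (hY : IsPullback e θ f' a) (hch : IsPullback θ bY bV g) (he : e ≫ q' = bY) (ha : a ≫ t = bV) :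
    IsIso (pullback.snd Φ (pullback.fst f a)) := by
  subst h1 h2 he ha
  have s1 : IsPullback (pullback.fst f a) (pullback.snd f a) f a := IsPullback.of_hasPullback _ _
  have s2 : IsPullback (pullback.snd f a) (pullback.fst f a ≫ q) (a ≫ t) g := s1.flip.paste_vert hsq
  have s3 : IsPullback (pullback.fst Φ (pullback.fst f a)) (pullback.snd Φ (pullback.fst f a) ≫ pullback.snd f a)
      (Φ ≫ f) a := (IsPullback.of_hasPullback Φ (pullback.fst f a)).paste_vert s1
  have key : pullback.snd Φ (pullback.fst f a) =
      (s3.isoIsPullback _ _ hY).hom ≫ (hch.isoIsPullback _ _ s2).hom := by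
    refine s2.hom_ext ?_ ?_
    · rw [Category.assoc, IsPullback.isoIsPullback_hom_fst, IsPullback.isoIsPullback_hom_snd]
    · rw [Category.assoc, IsPullback.isoIsPullback_hom_snd, ← Category.assoc (pullback.snd Φ _),
        ← pullback.condition, Category.assoc, ← Category.assoc (IsPullback.isoIsPullback _ _ _ _).hom,
        IsPullback.isoIsPullback_hom_fst]
  rw [key]
  infer_instance

set_option maxHeartbeats 1000000 in
/-- Projective space commutes with base change. -/
theorem isPullback_bcHom :
    IsPullback (bcHom n c) (CohB1.ProjSpace.toSpec n A) (CohB1.ProjSpace.toSpec n R)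
      (Spec.map (CommRingCat.ofHom c)) := by
  let Φ := pullback.lift (bcHom n c) (CohB1.ProjSpace.toSpec n A) (bcHom_toSpec c)
  have hsq : IsPullback (pullback.fst (CohB1.ProjSpace.toSpec n R) (Spec.map (CommRingCat.ofHom c)))
      (pullback.snd _ _) (CohB1.ProjSpace.toSpec n R) (Spec.map (CommRingCat.ofHom c)) := IsPullback.of_hasPullback _ _
  suffices hΦ : IsIso Φ by
    exact IsPullback.of_iso_pullback ⟨bcHom_toSpec c⟩ (@asIso _ _ _ _ Φ hΦ) (pullback.lift_fst _ _ _) (pullback.lift_snd _ _ _)
  have hcov := ((chartCover n R).openCover.pullback₁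
    (pullback.fst (CohB1.ProjSpace.toSpec n R) (Spec.map (CommRingCat.ofHom c))))
  rw [← MorphismProperty.isomorphisms.iff, IsZariskiLocalAtTarget.iff_of_openCover (P := MorphismProperty.isomorphisms Scheme)
    ((chartCover n R).openCover.pullback₁ (pullback.fst (CohB1.ProjSpace.toSpec n R) (Spec.map (CommRingCat.ofHom c))))]
  intro (i : ULift.{u} (Fin (n + 1)))
  exact isIso_snd_of_squares (hsq := IsPullback.of_hasPullback _ _) (Φ := Φ) (f' := bcHom n c)
    (q' := CohB1.ProjSpace.toSpec n A)
    (pullback.lift_fst _ _ _) (pullback.lift_snd _ _ _) (isPullback_awayι c i.down)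
    (isPullback_chart c i.down) (awayι_toSpec A i.down) (awayι_toSpec R i.down)

end Groth.Agent.KRRLib.PnBC
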