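import Groth.Prelude.Def_CohB1
import Mathlib.AlgebraicGeometry.ProjectiveSpectrum.Proper
import Mathlib.RingTheory.MvPolynomial.Ideal

/-!
# The standard charts of projective space over any ring
-/

set_option autoImplicit false
set_option linter.style.haveILetI false

universe u

open CategoryTheory AlgebraicGeometry
open HomogeneousLocalization (Away)

noncomputable section

namespace Groth.Agent.KRRLib.PnBC

variable (n : ℕ) (k : Type u) [CommRing k]

local notation "𝒜" => CohB1.polyGrading n k
local notation "T" => (MvPolynomial.X : Fin (n + 1) → MvPolynomial (Fin (n + 1)) k)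

theorem X_mem_one (j : Fin (n + 1)) : T j ∈ 𝒜 1 := MvPolynomial.isHomogeneous_X k j

/-- The coordinate `T_j / T_i` on the chart `D₊(T_i)`. -/
def coord (i j : Fin (n + 1)) : Away 𝒜 (T i) :=
  Away.mk 𝒜 (X_mem_one n k i) 1 (T j) (by rw [one_smul]; exact X_mem_one n k j)

/-- The constants of the chart. -/
def base (i : Fin (n + 1)) : k →+* Away 𝒜 (T i) :=
  (HomogeneousLocalization.fromZeroRingHom 𝒜 _).comp (algebraMap k (𝒜 0))

theorem val_base (i : Fin (n + 1)) (c : k) :
    (base n k i c).val = algebraMap (MvPolynomial (Fin (n + 1)) k) _ (MvPolynomial.C c) := by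
  show (HomogeneousLocalization.mk _).val = _
  rw [HomogeneousLocalization.val_mk, ← Localization.mk_one_eq_algebraMap]
  rfl

theorem val_coord (i j : Fin (n + 1)) :
    (coord n k i j).val * algebraMap (MvPolynomial (Fin (n + 1)) k) _ (T i) =
      algebraMap (MvPolynomial (Fin (n + 1)) k) (Localization (Submonoid.powers (T i))) (T j) := by
  rw [coord, HomogeneousLocalization.Away.val_mk, ← Localization.mk_one_eq_algebraMap,
    ← Localization.mk_one_eq_algebraMap, Localization.mk_mul, Localization.mk_eq_mk_iff,
    Localization.r_iff_exists]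
  exact ⟨1, by simp [mul_comm]⟩

theorem coord_self (i : Fin (n + 1)) : coord n k i i = 1 :=
  HomogeneousLocalization.val_injective _ (by
    rw [HomogeneousLocalization.val_one]
    have hu : IsUnit (algebraMap (MvPolynomial (Fin (n + 1)) k) (Localization (Submonoid.powers (T i))) (T i)) :=
      IsLocalization.map_units _ (⟨T i, 1, pow_one _⟩ : Submonoid.powers (T i))
    exact hu.mul_left_injective ((val_coord n k i i).trans (_root_.one_mul _).symm))

/-- Dehomogenisation with respect to `T_i`. -/
def dehom (i : Fin (n + 1)) : MvPolynomial (Fin (n + 1)) k →+* Away 𝒜 (T i) :=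
  MvPolynomial.eval₂Hom (base n k i) (coord n k i)

theorem val_dehom_mul (i : Fin (n + 1)) {m : ℕ} {x : MvPolynomial (Fin (n + 1)) k}
    (hx : x.IsHomogeneous m) :
    (dehom n k i x).val * algebraMap _ _ (T i) ^ m =
      algebraMap (MvPolynomial (Fin (n + 1)) k) (Localization (Submonoid.powers (T i))) x := by
  classical
  let val : Away 𝒜 (T i) →+* Localization (Submonoid.powers (T i)) := algebraMap _ _
  show val (dehom n k i x) * _ = _
  have hsum := x.as_sum
  rw [hsum, map_sum, map_sum, map_sum, Finset.sum_mul]
  refine Finset.sum_congr rfl fun d hd => ?_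
  have hdeg : ∑ j ∈ d.support, d j = m := by
    have := hx (MvPolynomial.mem_support_iff.1 hd)
    rwa [Finsupp.weight_apply, Finsupp.sum, Finset.sum_congr rfl fun j _ => (by simp : d j • (1 : Fin (n+1) → ℕ) j = d j)] at this
  rw [MvPolynomial.monomial_eq, Finsupp.prod, map_mul, map_mul, map_mul, map_prod, map_prod,
    map_prod, ← hdeg, ← Finset.prod_pow_eq_pow_sum, mul_assoc, ← Finset.prod_mul_distrib]
  congr 1
  · show val (dehom n k i (MvPolynomial.C _)) = _
    rw [dehom, MvPolynomial.eval₂Hom_C]
    exact val_base n k i _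
  · refine Finset.prod_congr rfl fun j _ => ?_
    rw [map_pow, map_pow, map_pow, ← mul_pow]
    congr 1
    rw [dehom, MvPolynomial.eval₂Hom_X']
    exact val_coord n k i j

theorem surjective_dehom (i : Fin (n + 1)) : Function.Surjective (dehom n k i) := by
  intro z
  obtain ⟨m, x, hx, rfl⟩ := HomogeneousLocalization.Away.mk_surjective 𝒜 (X_mem_one n k i) z
  refine ⟨x, HomogeneousLocalization.val_injective _ ?_⟩
  have hu : IsUnit (algebraMap (MvPolynomial (Fin (n + 1)) k)
      (Localization (Submonoid.powers (T i))) (T i) ^ m) :=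
    (IsLocalization.map_units _ (⟨T i, 1, pow_one _⟩ : Submonoid.powers (T i))).pow m
  refine hu.mul_left_injective ?_
  show _ * _ = _ * _
  rw [val_dehom_mul n k i (by simpa using hx), HomogeneousLocalization.Away.val_mk,
    ← map_pow, ← Localization.mk_one_eq_algebraMap, ← Localization.mk_one_eq_algebraMap,
    Localization.mk_mul, Localization.mk_eq_mk_iff, Localization.r_iff_exists]
  exact ⟨1, by simp [mul_comm]⟩

variable {n k} {B : Type u} [CommRing B]

/-- Maps out of a chart are determined by constants and coordinates. -/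
theorem chart_hom_ext (i : Fin (n + 1)) {φ ψ : Away 𝒜 (T i) →+* B}
    (hb : φ.comp (base n k i) = ψ.comp (base n k i))
    (hc : ∀ j, φ (coord n k i j) = ψ (coord n k i j)) : φ = ψ := by
  refine RingHom.ext fun z => ?_
  obtain ⟨x, rfl⟩ := surjective_dehom n k i z
  have : φ.comp (dehom n k i) = ψ.comp (dehom n k i) := MvPolynomial.ringHom_ext
    (fun c => by simpa [dehom] using RingHom.congr_fun hb c) fun j => by simpa [dehom] using hc j
  exact RingHom.congr_fun this x

/-- The map out of a chart with given constants and coordinates. -/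
def evalChart (i : Fin (n + 1)) (h : k →+* B) (v : Fin (n + 1) → B) (hv : v i = 1) : Away 𝒜 (T i) →+* B :=
  (IsLocalization.Away.lift (T i) (S := Localization (Submonoid.powers (T i)))
      (g := MvPolynomial.eval₂Hom h v) (by simp [hv])).comp
    (algebraMap (Away 𝒜 (T i)) (Localization (Submonoid.powers (T i))))

theorem evalChart_base (i : Fin (n + 1)) (h : k →+* B) (v : Fin (n + 1) → B) (hv : v i = 1) :
    (evalChart i h v hv).comp (base n k i) = h := by
  refine RingHom.ext fun c => ?_
  simp only [evalChart, RingHom.comp_apply, HomogeneousLocalization.algebraMap_apply, val_base,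
    IsLocalization.Away.lift_eq, MvPolynomial.eval₂Hom_C]

theorem evalChart_coord (i : Fin (n + 1)) (h : k →+* B) (v : Fin (n + 1) → B) (hv : v i = 1) (j : Fin (n + 1)) :
    evalChart i h v hv (coord n k i j) = v j := by
  have e := congrArg (IsLocalization.Away.lift (T i) (S := Localization (Submonoid.powers (T i)))
      (g := MvPolynomial.eval₂Hom h v) (by simp [hv])) (val_coord n k i j)
  rw [map_mul, IsLocalization.Away.lift_eq, IsLocalization.Away.lift_eq] at e
  simp only [MvPolynomial.eval₂Hom_X', hv, mul_one] at e
  exact e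

end Groth.Agent.KRRLib.PnBC
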