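import Groth.Agent.KRRLib.PnBC.Base
import Groth.Agent.KRRLib.PnBC.Chart
import Mathlib.AlgebraicGeometry.Morphisms.Flat
import Mathlib.RingTheory.RingHom.Flat
import Mathlib.RingTheory.Flat.Stability

/-!
# Projective space over a ring is flat over it
-/

set_option autoImplicit false
set_option linter.style.haveILetI false
set_option backward.isDefEq.respectTransparency false
set_option backward.isDefEq.respectTransparency.types false

universe u

open CategoryTheory AlgebraicGeometry

noncomputable section

namespace Groth.Agent.KRRLib.PnBC

variable (n : ℕ) (k : Type u) [CommRing k]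

/-- The coordinates of a chart, as polynomials. -/
def chartVar (i j : Fin (n + 1)) : MvPolynomial {j : Fin (n + 1) // j ≠ i} k :=
  if h : j = i then 1 else MvPolynomial.X ⟨j, h⟩

/-- The chart is a polynomial ring. -/
def chartEquiv (i : Fin (n + 1)) :
    MvPolynomial {j : Fin (n + 1) // j ≠ i} k ≃+*
      HomogeneousLocalization.Away (CohB1.polyGrading n k) (MvPolynomial.X i) :=
  RingEquiv.ofRingHom (MvPolynomial.eval₂Hom (base n k i) fun j => coord n k i j.1)
    (evalChart i MvPolynomial.C (chartVar n k i) (by simp [chartVar]))
    (by
      refine chart_hom_ext i ?_ fun j => ?_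
      · rw [RingHom.comp_assoc, evalChart_base, RingHom.id_comp]
        exact RingHom.ext fun a => MvPolynomial.eval₂Hom_C _ _ _
      · rw [RingHom.comp_apply, evalChart_coord, RingHom.id_apply, chartVar]
        by_cases h : j = i
        · subst h; rw [dif_pos rfl, map_one, coord_self]
        · rw [dif_neg h, MvPolynomial.eval₂Hom_X'])
    (by
      refine MvPolynomial.ringHom_ext (fun a => ?_) fun j => ?_
      · rw [RingHom.comp_apply, MvPolynomial.eval₂Hom_C, ← RingHom.comp_apply, evalChart_base, RingHom.id_apply]
      · rw [RingHom.comp_apply, MvPolynomial.eval₂Hom_X', evalChart_coord, RingHom.id_apply, chartVar, dif_neg j.2])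

theorem flat_base (i : Fin (n + 1)) : (base n k i).Flat := by
  have h : base n k i = (chartEquiv n k i).toRingHom.comp MvPolynomial.C :=
    RingHom.ext fun a => (MvPolynomial.eval₂Hom_C _ _ _).symm
  rw [h]
  refine RingHom.Flat.comp ?_ (RingHom.Flat.of_bijective (chartEquiv n k i).bijective)
  exact RingHom.flat_algebraMap_iff.mpr inferInstance

instance flat_toSpec : Flat (CohB1.ProjSpace.toSpec n k) := by
  refine IsZariskiLocalAtSource.of_openCover (P := @Flat) (chartCover n k).openCover fun i => ?_
  show Flat (Proj.awayι (CohB1.polyGrading n k) (MvPolynomial.X i.down) (X_mem_one n k i.down) Nat.one_pos ≫ _)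
  rw [awayι_toSpec]
  exact (HasRingHomProperty.Spec_iff (P := @Flat)).mpr (flat_base n k i.down)

end Groth.Agent.KRRLib.PnBC
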